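import Mathlib
import Cfsg.Agent.GpExc.Over
import Cfsg.Agent.Nodes.RGDChev
import Cfsg.Agent.ChevalleyStructure.WordEntry
set_option linter.all false

/-!
# Chevalley groups over a subfield (helper75)

* `emb hp f : D.group F →* D.group K` for a homomorphism of fields `f : F →+* K`, injective, `x_r(t) ↦ x_r(f t)`;
* `comp` : the compatibility `Over.Comp` for every functional.
-/

set_option autoImplicit false
set_option linter.unusedSectionVars false

namespace Cfsg.Agent.GpExc.Field

open CoxeterSystem Cfsg.Agent.ChevalleyStructure.CoxeterGeom Cfsg.Agent.Tits.Roots Cfsg.Agent.Tits.Core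
  Cfsg.Agent.Nodes.Reps Cfsg.Agent.Nodes.BNOf Cfsg.Agent.Nodes.Bruhat Cfsg.Agent.KFacts.RgdPar
open Cfsg.Lie Cfsg.Agent.ChevalleyStructure Cfsg.Agent.ChevalleyStructure.Elts
open Cfsg.Agent.Nodes Cfsg.Agent.Nodes.RGDChev

universe u v

variable {F : Type u} {K : Type v} [Field F] [Field K]

/-- the entrywise homomorphism of general linear groups -/
noncomputable def glMap (D : ChevalleyDatum) (f : F →+* K) : GL D.Idx F →* GL D.Idx K :=
  Units.map (f.mapMatrix : Matrix D.Idx D.Idx F →+* Matrix D.Idx D.Idx K).toMonoidHom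

theorem coe_glMap (D : ChevalleyDatum) (f : F →+* K) (g : GL D.Idx F) :
    ((glMap D f g : GL D.Idx K) : Matrix D.Idx D.Idx K) = (g : Matrix D.Idx D.Idx F).map f := rfl

theorem glMap_injective (D : ChevalleyDatum) (f : F →+* K) : Function.Injective (glMap D f) := by
  intro a b hab
  apply Units.ext
  have h1 := congrArg (fun z : GL D.Idx K => (z : Matrix D.Idx D.Idx K)) hab
  exact Matrix.map_injective f.injective h1

theorem glMap_xG {D : ChevalleyDatum} (hD : InList D) (f : F →+* K) (r : ℕ) (t : F) :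
    glMap D f (xG hD r t) = xG hD r (f t) := by
  apply Units.ext
  rw [coe_glMap, coe_xG, coe_xG, WordEntry.x_map]

theorem glMap_mem {D : ChevalleyDatum} (hD : InList D) (f : F →+* K) {g : GL D.Idx F} (hg : g ∈ D.group F) :
    glMap D f g ∈ D.group K := by
  have h1 : D.group F ≤ (D.group K).comap (glMap D f) := by
    rw [group_le_iff hD]
    intro r _ t
    rw [Subgroup.mem_comap, glMap_xG hD]
    exact xG_mem_group hD r _
  exact h1 hg

/-- **The embedding of Chevalley groups.** -/
noncomputable def emb {D : ChevalleyDatum} (hD : InList D) (f : F →+* K) : ↥(D.group F) →* ↥(D.group K) :=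
  ((glMap D f).comp (D.group F).subtype).codRestrict (D.group K) fun g => glMap_mem hD f g.2

theorem coe_emb {D : ChevalleyDatum} (hD : InList D) (f : F →+* K) (g : ↥(D.group F)) :
    ((emb hD f g : ↥(D.group K)) : GL D.Idx K) = glMap D f g := rfl

theorem emb_injective {D : ChevalleyDatum} (hD : InList D) (f : F →+* K) : Function.Injective (emb hD f) := by
  intro a b hab
  exact Subtype.ext (glMap_injective D f (congrArg Subtype.val hab))

section Comp

variable {D : ChevalleyDatum} {l : ℕ} {M : CoxeterMatrix (Fin l)} (hp : IsType D l M) (f : F →+* K)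

theorem glMap_nG (r : ℕ) (c : F) : glMap D f (nG hp.inList r c) = nG hp.inList r (f c) := by
  rw [nG_def, nG_def, map_mul, map_mul, glMap_xG, glMap_xG, map_neg, map_inv₀]

theorem glMap_hG (r : ℕ) (c : F) : glMap D f (hG hp.inList r c) = hG hp.inList r (f c) := by
  rw [hG_def, hG_def, map_mul, glMap_nG hp, glMap_nG hp, map_neg, map_one]

include hp in
theorem glMap_diagonal {g : GL D.Idx F} (hg : g ∈ D.diagonalSubgroup F) : glMap D f g ∈ D.diagonalSubgroup K := by
  have h1 : D.diagonalSubgroup F ≤ (D.diagonalSubgroup K).comap (glMap D f) := by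
    rw [diagonal_le_iff hp.inList]
    intro r hr t ht
    rw [Subgroup.mem_comap, glMap_hG hp]
    exact hG_mem_diagonal hp.inList hr ((map_ne_zero f).2 ht)
  exact h1 hg

variable {W : Type*} [Group W] (cs : CoxeterSystem M W)

theorem emb_X {x : Fin l → ℤ} (hx : IsRoot cs hp.isCartan x) :
    ((XV D l F x).subgroupOf (D.group F)).map (emb hp.inList f) ≤ (XV D l K x).subgroupOf (D.group K) := by
  rintro _ ⟨g, hg, rfl⟩
  obtain ⟨r, hr, rfl⟩ := (isRoot_iff hp cs x).1 hx
  rw [SetLike.mem_coe, Subgroup.mem_subgroupOf, XV_vec hp F hr, mem_rootSubgroup_iff hp.inList] at hg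
  obtain ⟨t, ht⟩ := hg
  rw [Subgroup.mem_subgroupOf, XV_vec hp K hr, mem_rootSubgroup_iff hp.inList, coe_emb]
  exact ⟨f t, by rw [← glMap_xG, ht]⟩

theorem emb_T : ((D.diagonalSubgroup F).subgroupOf (D.group F)).map (emb hp.inList f) ≤
    (D.diagonalSubgroup K).subgroupOf (D.group K) := by
  rintro _ ⟨g, hg, rfl⟩
  rw [SetLike.mem_coe, Subgroup.mem_subgroupOf] at hg
  rw [Subgroup.mem_subgroupOf, coe_emb]
  exact glMap_diagonal hp f hg

/-- **The compatibility of the root group data of `D.group F` and `D.group K`.** -/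
theorem comp (fn : (Fin l → ℤ) →+ ℤ) :
    Over.Comp cs hp.isCartan ((D.diagonalSubgroup K).subgroupOf (D.group K))
      (fun x => (XV D l K x).subgroupOf (D.group K)) cs hp.isCartan ((D.diagonalSubgroup F).subgroupOf (D.group F))
      (fun x => (XV D l F x).subgroupOf (D.group F)) (emb hp.inList f) fn fn where
  inj := emb_injective hp.inList f
  tor := (emb_T hp f).trans T_le_PS
  nonneg _ ha h0 := (emb_X hp f cs ha).trans
    (X_le_PS (X := fun x => (XV D l K x).subgroupOf (D.group K)) ⟨ha, h0⟩)
  neg _ ha h0 := (emb_X hp f cs ha).trans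
    (RGD.le_Sup (X := fun x => (XV D l K x).subgroupOf (D.group K)) ⟨ha, h0⟩)

end Comp

end Cfsg.Agent.GpExc.Field
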